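import Mathlib
import Cfsg.Prelude.Def_LieTypeDatum
import Cfsg.Agent.Lib.Helper5.OAut.InvolCase
import Cfsg.Agent.Lib.Helper5.OAut.SimParity

set_option autoImplicit false

/-! The determinant of an involutory matrix, and matrices squaring to a non-square scalar. -/

namespace Cfsg.Agent.Lib.Helper5.MinusGraph

open Cfsg Matrix Module Polynomial Cfsg.Agent.Lib.Helper5.OAut

section involdet
variable {ι : Type} [Fintype ι] [DecidableEq ι] {F : Type*} [Field F]

theorem eigSub_disjoint (h2 : (2 : F) ≠ 0) (M : Matrix ι ι F) :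
    Disjoint (eigSub M 1) (eigSub M (-1)) := by
  rw [Submodule.disjoint_def]
  intro v hv1 hv2
  rw [mem_eigSub] at hv1 hv2
  rw [hv1, one_smul, neg_one_smul] at hv2
  have h3 : (2 : F) • v = 0 := by
    rw [two_smul]
    nth_rewrite 1 [hv2]
    exact neg_add_cancel v
  exact (smul_eq_zero.1 h3).resolve_left h2

theorem eigSub_isCompl (h2 : (2 : F) ≠ 0) (M : Matrix ι ι F) (hMM : M * M = 1) :
    IsCompl (eigSub M 1) (eigSub M (-1)) := by
  refine ⟨eigSub_disjoint h2 M, ?_⟩
  rw [codisjoint_iff, eq_top_iff]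
  intro v _
  obtain ⟨x, hx, y, hy, rfl⟩ := eig_decomp h2 M hMM v
  exact Submodule.add_mem_sup hx hy

theorem finrank_eig_add (h2 : (2 : F) ≠ 0) (M : Matrix ι ι F) (hMM : M * M = 1) :
    finrank F (eigSub M 1) + finrank F (eigSub M (-1)) = Fintype.card ι := by
  have h := Submodule.finrank_add_eq_of_isCompl (eigSub_isCompl h2 M hMM)
  rw [h, finrank_fintype_fun_eq_card]

/-- **the determinant of an involution** -/
theorem det_involution (h2 : (2 : F) ≠ 0) (M : Matrix ι ι F) (hMM : M * M = 1) :
    M.det = (-1) ^ finrank F (eigSub M (-1)) := by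
  have hc := eigSub_isCompl h2 M hMM
  let e := Submodule.prodEquivOfIsCompl (eigSub M 1) (eigSub M (-1)) hc
  have key : Matrix.toLin' M = (e : (↥(eigSub M 1) × ↥(eigSub M (-1))) →ₗ[F] (ι → F)) ∘ₗ
      (LinearMap.prodMap LinearMap.id ((-1 : F) • LinearMap.id)) ∘ₗ
      (e.symm : (ι → F) →ₗ[F] (↥(eigSub M 1) × ↥(eigSub M (-1)))) := by
    apply LinearMap.ext
    intro v
    obtain ⟨⟨x, y⟩, rfl⟩ := e.surjective v
    rw [LinearMap.comp_apply, LinearMap.comp_apply, LinearEquiv.coe_coe, LinearEquiv.coe_coe,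
      LinearEquiv.symm_apply_apply, LinearMap.prodMap_apply, Matrix.toLin'_apply]
    simp only [e, Submodule.coe_prodEquivOfIsCompl', LinearMap.id_apply, LinearMap.smul_apply,
      Submodule.coe_smul]
    rw [Matrix.mulVec_add, (mem_eigSub M 1 x).1 x.2, (mem_eigSub M (-1) y).1 y.2, one_smul]
  rw [← LinearMap.det_toLin', key, LinearMap.det_conj, LinearMap.det_prodMap, LinearMap.det_id,
    LinearMap.det_smul, LinearMap.det_id, one_mul, mul_one]

/-- a matrix anticommuting with an involution interchanges its eigenspaces -/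
theorem finrank_eig_eq_of_anticomm (M : Matrix ι ι F) (H : GL ι F)
    (hHM : (H : Matrix ι ι F) * M = -(M * (H : Matrix ι ι F))) :
    finrank F (eigSub M 1) = finrank F (eigSub M (-1)) := by
  have hle : ∀ ε : F, finrank F (eigSub M ε) ≤ finrank F (eigSub M (-ε)) := by
    intro ε
    rw [← finrank_imageSubmodule H (eigSub M ε)]
    apply Submodule.finrank_mono
    intro x hx
    rw [mem_imageSubmodule] at hx
    obtain ⟨u, hu, rfl⟩ := hx
    rw [mem_eigSub] at hu ⊢
    rw [Matrix.mulVec_mulVec]
    have : M * (H : Matrix ι ι F) = -((H : Matrix ι ι F) * M) := by rw [hHM, neg_neg]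
    rw [this, Matrix.neg_mulVec, ← Matrix.mulVec_mulVec, hu, Matrix.mulVec_smul, neg_smul]
  apply le_antisymm (hle 1)
  have := hle (-1)
  rwa [neg_neg] at this

end involdet

section charpolysq
variable {ι : Type} [Fintype ι] [DecidableEq ι] {F : Type*} [Field F]

theorem charmatrix_mul_neg (M : Matrix ι ι F) (lam : F) (hMM : M * M = lam • (1 : Matrix ι ι F)) :
    charmatrix M * charmatrix (-M) =
      Matrix.scalar ι ((X : F[X]) ^ 2 - C lam) := by
  have h1 : charmatrix (-M) = Matrix.scalar ι (X : F[X]) + (C : F →+* F[X]).mapMatrix M := by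
    unfold charmatrix
    rw [map_neg, sub_neg_eq_add]
  have h2 : (C : F →+* F[X]).mapMatrix M * (C : F →+* F[X]).mapMatrix M =
      Matrix.scalar ι (C lam) := by
    rw [← map_mul, hMM]
    ext i j
    simp only [RingHom.mapMatrix_apply, Matrix.map_apply, Matrix.smul_apply, Matrix.one_apply,
      Matrix.scalar_apply, Matrix.diagonal_apply, smul_eq_mul]
    by_cases hij : i = j
    · simp [hij]
    · simp [hij]
  have h3 : Commute (Matrix.scalar ι (X : F[X])) ((C : F →+* F[X]).mapMatrix M) :=
    Matrix.scalar_commute _ (fun r' => Commute.all _ _) _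
  rw [h1]
  unfold charmatrix
  rw [sub_mul, mul_add, mul_add, h2, h3.eq, map_sub, map_pow]
  rw [pow_two]
  abel

/-- **a matrix squaring to a non-square scalar** has determinant `(-λ)^n` -/
theorem det_of_sq_nonsquare (M : Matrix ι ι F) (lam : F) (hlam : ¬ IsSquare lam)
    (hMM : M * M = lam • (1 : Matrix ι ι F)) (n : ℕ) (hcard : Fintype.card ι = 2 * n) :
    M.det = (-lam) ^ n := by
  set π : F[X] := (X : F[X]) ^ 2 - C lam with hπ
  have hπdeg : π.natDegree = 2 := by
    rw [hπ]
    compute_degree!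
  have hπmonic : π.Monic := by
    rw [hπ]
    monicity!
  have hπirr : Irreducible π := by
    apply irreducible_of_degree_le_three_of_not_isRoot
    · rw [hπdeg]; decide
    · intro x hx
      rw [hπ, IsRoot.def, eval_sub, eval_pow, eval_X, eval_C] at hx
      exact hlam ⟨x, by linear_combination -hx⟩
  have hprod : M.charpoly * (-M).charpoly = π ^ (2 * n) := by
    unfold Matrix.charpoly
    rw [← Matrix.det_mul, charmatrix_mul_neg M lam hMM, Matrix.scalar_apply,
      Matrix.det_diagonal, Finset.prod_const, Finset.card_univ, hcard]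
  have hdvd : M.charpoly ∣ π ^ (2 * n) := ⟨_, hprod.symm⟩
  obtain ⟨i, -, hi⟩ := (dvd_prime_pow hπirr.prime (2 * n)).1 hdvd
  have heq : M.charpoly = π ^ i :=
    eq_of_monic_of_associated (Matrix.charpoly_monic M) (hπmonic.pow i) hi
  have hdeg : i = n := by
    have h1 := congrArg Polynomial.natDegree heq
    rw [Matrix.charpoly_natDegree_eq_dim, hcard, hπmonic.natDegree_pow, hπdeg] at h1
    omega
  rw [Matrix.det_eq_sign_charpoly_coeff, heq, hdeg, hcard, pow_mul, neg_one_sq, one_pow, one_mul,
    Polynomial.coeff_zero_eq_eval_zero, eval_pow, hπ, eval_sub, eval_pow, eval_X, eval_C]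
  congr 1
  ring

end charpolysq

end Cfsg.Agent.Lib.Helper5.MinusGraph
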