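import Mathlib
import Cfsg.Prelude.Def_LieTypeDatum
import Cfsg.Agent.Lib.Helper5.MinusGraph.InvolDet
import Cfsg.Agent.Lib.Helper5.OAut.GraphInvMain

set_option autoImplicit false

/-! In even rank, a similarity of non-square multiplier never commutes, modulo scalars, with a
class interchanging similarity whose square is a scalar. -/

namespace Cfsg.Agent.Lib.Helper5.MinusGraph

open Cfsg Matrix QuadraticMap Module Cfsg.Agent.Lib.Helper5.SpinorNorm Cfsg.Agent.Lib.Helper5.Refl
  Cfsg.Agent.Lib.Helper5.SpinorHyp Cfsg.Agent.Lib.Helper5.SpinorDiag Cfsg.Agent.Lib.Helper5.MaxTS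
  Cfsg.Agent.Lib.Helper5.OAut

section nocomm
variable {ι : Type} [Fintype ι] [DecidableEq ι] {F : Type*} [Field F] [Fintype F]
  {Q : QuadraticForm F (ι → F)}

theorem isSquare_of_odd_pow {x : F} (hx : x ≠ 0) {k : ℕ} (hk : Odd k) (h : IsSquare (x ^ k)) :
    IsSquare x := by
  obtain ⟨j, rfl⟩ := hk
  obtain ⟨r, hr⟩ := h
  refine ⟨r / x ^ j, ?_⟩
  have hxj : x ^ j ≠ 0 := pow_ne_zero _ hx
  field_simp
  rw [pow_two r, ← hr]
  ring

/-- an isometry which is an involution of determinant `-1` is not centralised, even up to sign,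
by a similarity of non-square multiplier, when the rank is even -/
theorem no_comm_involution (h2 : (2 : F) ≠ 0) (hQ : (polarBilin Q).Nondegenerate)
    {w₀ : ι → F} (hw₀ : Q w₀ = 1) (n : ℕ) (hcard : Fintype.card ι = 2 * n) (hn : Even n)
    (hn2 : 2 ≤ Fintype.card ι)
    (M : Matrix ι ι F) (hM : ∀ v, Q (M *ᵥ v) = Q v) (hMM : M * M = 1) (hdet : M.det = -1)
    (h : ↥(Geo.quadSimilarityGroup (F := F) ⇑Q))
    (hμh : ¬ IsSquare (mult Q w₀ (h : GL ι F)))
    (hc : ((h : GL ι F) : Matrix ι ι F) * M = M * ((h : GL ι F) : Matrix ι ι F) ∨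
      ((h : GL ι F) : Matrix ι ι F) * M = -(M * ((h : GL ι F) : Matrix ι ι F))) : False := by
  rcases hc with hc | hc
  · -- the commuting case: spinor norms
    obtain ⟨σ, hσdef⟩ : ∃ σ : ↥(isometryGroup F ⇑Q),
        (((σ : ↥(isometryGroup F ⇑Q)) : GL ι F) : Matrix ι ι F) = M := by
      refine ⟨⟨⟨M, M, hMM, hMM⟩, ?_⟩, rfl⟩
      rw [Cfsg.Agent.Lib.Helper5.OrthCard.mem_isometryGroup_iff]
      exact hM
    obtain ⟨vs, hvs⟩ := exists_rep Q h2 hQ σ
    have hoddlen : Odd vs.length := by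
      have h1 := rprod_det Q vs hvs.1
      rw [← hvs.2, hσdef, hdet] at h1
      by_contra hcon
      rw [Nat.not_odd_iff_even] at hcon
      rw [hcon.neg_one_pow] at h1
      apply h2
      linear_combination -h1
    have hconj : simConjO Q h σ = σ := by
      apply Subtype.ext
      rw [simConjO_apply]
      apply Units.ext
      rw [Units.val_mul, Units.val_mul, hσdef, hc, Matrix.mul_assoc, ← Units.val_mul,
        mul_inv_cancel, Units.val_one, Matrix.mul_one]
    have hmem := comm_mem_Omega_iff h2 hQ hn2 hw₀ h σ vs hvs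
    rw [hconj, mul_inv_cancel] at hmem
    have hsq := hmem.1 (Subgroup.one_mem _)
    exact hμh (isSquare_of_odd_pow (mult_ne_zero hw₀ h.2) hoddlen hsq)
  · -- the anticommuting case: dimensions
    have h1 := finrank_eig_eq_of_anticomm M (h : GL ι F) hc
    have h3 := finrank_eig_add h2 M hMM
    have h4 : finrank F (eigSub M (-1)) = n := by omega
    have h5 := det_involution h2 M hMM
    rw [h4, hn.neg_one_pow, hdet] at h5
    apply h2
    linear_combination -h5

/-- both eigenspaces of an involutory similarity of multiplier `-1` have half the dimension -/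
theorem finrank_eig_of_neg (h2 : (2 : F) ≠ 0) (hQ : (polarBilin Q).Nondegenerate) (n : ℕ)
    (hcard : Fintype.card ι = 2 * n) (M : Matrix ι ι F) (hM : ∀ v, Q (M *ᵥ v) = -Q v)
    (hMM : M * M = 1) : finrank F (eigSub M (-1)) = n := by
  have hV : finrank F (ι → F) = 2 * n := by rw [finrank_fintype_fun_eq_card, hcard]
  have hts : ∀ ε : F, ε * ε = 1 → ∀ w ∈ eigSub M ε, Q w = 0 := by
    intro ε hε w hw
    rw [mem_eigSub] at hw
    have h1 := hM w
    rw [hw, QuadraticMap.map_smul, hε, smul_eq_mul, one_mul] at h1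
    have h3 : (2 : F) * Q w = 0 := by linear_combination h1
    exact (mul_eq_zero.1 h3).resolve_left h2
  have h1 := finrank_le_of_ts Q hQ n hV (eigSub M 1) (hts 1 (by ring))
  have h3 := finrank_le_of_ts Q hQ n hV (eigSub M (-1)) (hts (-1) (by ring))
  have h4 := finrank_eig_add h2 M hMM
  omega

/-- **no commuting similarity of non-square multiplier** (even rank) -/
theorem no_comm_core (h2 : (2 : F) ≠ 0) (hQ : (polarBilin Q).Nondegenerate)
    {w₀ : ι → F} (hw₀ : Q w₀ = 1) (n : ℕ) (hcard : Fintype.card ι = 2 * n) (hn : Even n)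
    (hn2 : 2 ≤ Fintype.card ι)
    (g h : ↥(Geo.quadSimilarityGroup (F := F) ⇑Q))
    (hdg : detRatio (Q := Q) w₀ n (g : GL ι F) ≠ 1)
    (hμh : ¬ IsSquare (mult Q w₀ (h : GL ι F)))
    (lam : F) (hgg : ((g : GL ι F) : Matrix ι ι F) * ((g : GL ι F) : Matrix ι ι F) =
      lam • (1 : Matrix ι ι F))
    (c : F) (hc : ((h : GL ι F) : Matrix ι ι F) * ((g : GL ι F) : Matrix ι ι F) =
      c • (((g : GL ι F) : Matrix ι ι F) * ((h : GL ι F) : Matrix ι ι F))) : False := by
  obtain ⟨μ, hμdef⟩ : ∃ μ, μ = mult Q w₀ (g : GL ι F) := ⟨_, rfl⟩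
  obtain ⟨η, hηdef⟩ : ∃ η, η = mult Q w₀ (h : GL ι F) := ⟨_, rfl⟩
  have hμ0 : μ ≠ 0 := by rw [hμdef]; exact mult_ne_zero hw₀ g.2
  have hη0 : η ≠ 0 := by rw [hηdef]; exact mult_ne_zero hw₀ h.2
  have hG : ∀ v, Q (((g : GL ι F) : Matrix ι ι F) *ᵥ v) = μ * Q v := by
    intro v
    rw [hμdef]
    exact mult_spec hw₀ g.2 v
  have hH : ∀ v, Q (((h : GL ι F) : Matrix ι ι F) *ᵥ v) = η * Q v := by
    intro v
    rw [hηdef]
    exact mult_spec hw₀ h.2 v
  -- `lam = ± μ`
  have hlam : lam = μ ∨ lam = -μ := by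
    have h1 : Q ((((g : GL ι F) : Matrix ι ι F) * ((g : GL ι F) : Matrix ι ι F)) *ᵥ w₀) =
        μ * μ := by
      rw [← Matrix.mulVec_mulVec, hG, hG, hw₀, mul_one]
    rw [hgg, Matrix.smul_mulVec, Matrix.one_mulVec, QuadraticMap.map_smul, hw₀, smul_eq_mul,
      mul_one] at h1
    exact mul_self_eq_mul_self_iff.1 h1
  -- `c = ± 1`
  have hcc : c = 1 ∨ c = -1 := by
    have h1 : Q ((((h : GL ι F) : Matrix ι ι F) * ((g : GL ι F) : Matrix ι ι F)) *ᵥ w₀) =
        η * μ := by
      rw [← Matrix.mulVec_mulVec, hH, hG, hw₀, mul_one]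
    rw [hc, Matrix.smul_mulVec, QuadraticMap.map_smul, ← Matrix.mulVec_mulVec, hG, hH, hw₀,
      mul_one, smul_eq_mul] at h1
    have h3 : c * c = 1 := by
      have h4 : η * μ ≠ 0 := mul_ne_zero hη0 hμ0
      apply mul_right_cancel₀ h4
      linear_combination h1
    exact mul_self_eq_one_iff.1 h3
  -- the determinant of `g`
  have hdr : detRatio (Q := Q) w₀ n (g : GL ι F) = -1 := by
    rcases mul_self_eq_one_iff.1 (detRatio_sq hQ hw₀ hcard g.2) with h1 | h1
    · exact absurd h1 hdg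
    · exact h1
  have hdetg : ((g : GL ι F) : Matrix ι ι F).det = -μ ^ n := by
    unfold detRatio at hdr
    rw [← hμdef] at hdr
    have h3 : (μ⁻¹ ^ n) * μ ^ n = 1 := by
      rw [← mul_pow, inv_mul_cancel₀ hμ0, one_pow]
    calc ((g : GL ι F) : Matrix ι ι F).det
        = ((g : GL ι F) : Matrix ι ι F).det * μ⁻¹ ^ n * μ ^ n := by
          rw [mul_assoc, h3, mul_one]
      _ = -μ ^ n := by rw [hdr]; ring
  have hμn : μ ^ n ≠ 0 := pow_ne_zero _ hμ0
  have hcontra : ((g : GL ι F) : Matrix ι ι F).det = μ ^ n → False := by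
    intro h1
    rw [hdetg] at h1
    apply hμn
    have h3 : (2 : F) * μ ^ n = 0 := by linear_combination -h1
    exact (mul_eq_zero.1 h3).resolve_left h2
  by_cases hsq : IsSquare μ
  · obtain ⟨s, hs⟩ := hsq
    have hs0 : s ≠ 0 := by
      rintro rfl
      apply hμ0
      rw [hs, mul_zero]
    obtain ⟨M, hMdef⟩ : ∃ M : Matrix ι ι F, M = s⁻¹ • ((g : GL ι F) : Matrix ι ι F) := ⟨_, rfl⟩
    have hGM : ((g : GL ι F) : Matrix ι ι F) = s • M := by
      rw [hMdef, smul_smul, mul_inv_cancel₀ hs0, one_smul]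
    have hM : ∀ v, Q (M *ᵥ v) = Q v := by
      intro v
      rw [hMdef, smul_mulVec, QuadraticMap.map_smul, hG, hs, smul_eq_mul]
      field_simp
    have hMM : M * M = (s⁻¹ * s⁻¹ * lam) • (1 : Matrix ι ι F) := by
      rw [hMdef, Matrix.smul_mul, Matrix.mul_smul, hgg, smul_smul, smul_smul]
    have hdetM : M.det = -1 := by
      rw [hMdef, Matrix.det_smul, hcard, hdetg, hs]
      have : (s⁻¹) ^ (2 * n) * (s * s) ^ n = 1 := by
        rw [pow_mul, ← mul_pow, pow_two]
        have : s⁻¹ * s⁻¹ * (s * s) = 1 := by field_simp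
        rw [this, one_pow]
      linear_combination -this
    rcases hlam with hl | hl
    · have hMM1 : M * M = 1 := by
        rw [hMM, hl, hs]
        have : s⁻¹ * s⁻¹ * (s * s) = 1 := by field_simp
        rw [this, one_smul]
      apply no_comm_involution h2 hQ hw₀ n hcard hn hn2 M hM hMM1 hdetM h
        (by rw [← hηdef]; rwa [← hηdef] at hμh)
      have hc' : ((h : GL ι F) : Matrix ι ι F) * M = c • (M * ((h : GL ι F) : Matrix ι ι F)) := by
        rw [hMdef, Matrix.mul_smul, hc, Matrix.smul_mul, smul_comm]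
      rcases hcc with rfl | rfl
      · left
        rw [hc', one_smul]
      · right
        rw [hc', neg_one_smul]
    · exfalso
      have h1 : M.det = 1 := by
        apply det_eq_one_of_sq_neg_one h2 hQ M hM
        rw [hMM, hl, hs]
        have : s⁻¹ * s⁻¹ * -(s * s) = -1 := by field_simp
        rw [this, neg_one_smul]
      rw [hdetM] at h1
      apply h2
      linear_combination -h1
  · -- non-square multiplier: the determinant is `μ ^ n`
    apply hcontra
    by_cases hlsq : IsSquare lam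
    · obtain ⟨ν, hν⟩ := hlsq
      have hl : lam = -μ := by
        rcases hlam with hl | hl
        · exact absurd ⟨ν, by rw [← hl, hν]⟩ hsq
        · exact hl
      have hν0 : ν ≠ 0 := by
        rintro rfl
        apply hμ0
        rw [mul_zero] at hν
        rw [hν] at hl
        exact neg_eq_zero.1 hl.symm
      obtain ⟨M, hMdef⟩ : ∃ M : Matrix ι ι F, M = ν⁻¹ • ((g : GL ι F) : Matrix ι ι F) := ⟨_, rfl⟩
      have hM : ∀ v, Q (M *ᵥ v) = -Q v := by
        intro v
        rw [hMdef, smul_mulVec, QuadraticMap.map_smul, hG, smul_eq_mul]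
        have : μ = -(ν * ν) := by rw [← hν, hl, neg_neg]
        rw [this]
        field_simp
      have hMM : M * M = 1 := by
        rw [hMdef, Matrix.smul_mul, Matrix.mul_smul, hgg, smul_smul, smul_smul, hν]
        have : ν⁻¹ * ν⁻¹ * (ν * ν) = 1 := by field_simp
        rw [this, one_smul]
      have h1 := finrank_eig_of_neg h2 hQ n hcard M hM hMM
      have h3 := det_involution h2 M hMM
      rw [h1, hn.neg_one_pow] at h3
      have hGM : ((g : GL ι F) : Matrix ι ι F) = ν • M := by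
        rw [hMdef, smul_smul, mul_inv_cancel₀ hν0, one_smul]
      rw [hGM, Matrix.det_smul, h3, mul_one, hcard, pow_mul, pow_two, ← hν, hl, hn.neg_pow]
    · rw [det_of_sq_nonsquare _ lam hlsq hgg n hcard]
      rcases hlam with hl | hl
      · rw [hl, hn.neg_pow]
      · rw [hl, neg_neg]

end nocomm

end Cfsg.Agent.Lib.Helper5.MinusGraph
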