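import Mathlib
import Cfsg.Prelude
import Cfsg.Agent.Lib.Helper9.AOF15
import Cfsg.Agent.Lib.Helper9.APSL30
import Cfsg.Agent.S0294

set_option autoImplicit false
set_option linter.unusedSectionVars false
set_option linter.unusedVariables false

/-! An involution of `PΩ⁻` induced by a semisimilarity is induced by a similarity. -/

namespace Cfsg.Agent.Lib.Helper5.MinusGraph

open Cfsg Matrix QuadraticMap Cfsg.Agent.Lib.Helper5.OrthCard Cfsg.Agent.Lib.Helper5.OrthPlane
open Cfsg.Agent.Lib.Helper9.AOR Cfsg.Agent.Lib.Helper9.ASP Cfsg.Agent.Lib.Helper9.AOF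
open Cfsg.Agent.Lib.Helper5.OAut Cfsg.Agent.Lib.Helper5.SpinorHyp
  Cfsg.Agent.Lib.Helper5.OmegaSimple Cfsg.Agent.Lib.Helper5.SpinorNorm

section gram
variable {F : Type*} [Field F] (a b : F) (m : ℕ)

theorem gram_minus :
    LinearMap.toMatrix₂' F (polarBilin (genForm (binForm a b) m)) =
      Matrix.fromBlocks (Matrix.fromBlocks 0 1 1 0) 0 0 (!![2, a; a, 2 * b]) := by
  ext i j
  rw [LinearMap.toMatrix₂'_apply, polarBilin_apply_apply, polar_genForm, polar_binForm]
  rcases i with (i | i) | i <;> rcases j with (j | j) | j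
  all_goals simp [Pi.single_apply, Matrix.one_apply]
  · simp only [eq_comm]
  · fin_cases i <;> fin_cases j <;> simp

theorem det_gram_minus :
    ∃ e : F, e * e = 1 ∧
      (LinearMap.toMatrix₂' F (polarBilin (genForm (binForm a b) m))).det =
        e * (4 * b - a * a) := by
  refine ⟨(Matrix.fromBlocks (0 : Matrix (Fin m) (Fin m) F) (1 : Matrix (Fin m) (Fin m) F)
    (1 : Matrix (Fin m) (Fin m) F) (0 : Matrix (Fin m) (Fin m) F)).det, ?_, ?_⟩
  · rw [← Matrix.det_mul, Matrix.fromBlocks_multiply]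
    simp only [Matrix.mul_zero, Matrix.zero_mul, Matrix.mul_one, zero_add, add_zero,
      Matrix.fromBlocks_one, Matrix.det_one]
  · rw [gram_minus, Matrix.det_fromBlocks_zero₂₁, Matrix.det_fin_two_of]
    ring

end gram

section semigram
variable {ι : Type} [Fintype ι] [DecidableEq ι] {F : Type*} [Field F]
  {Q : QuadraticForm F (ι → F)}

theorem polar_sm (g : Matrix.GeneralLinearGroup ι F) (σ : F ≃+* F) (c : F)
    (hg : ∀ v, Q (sm g σ v) = c * σ (Q v)) (u v : ι → F) :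
    polar ⇑Q (sm g σ u) (sm g σ v) = c * σ (polar ⇑Q u v) := by
  unfold polar
  rw [← sm_add, hg, hg, hg, map_sub, map_sub]
  ring

theorem sm_single (g : Matrix.GeneralLinearGroup ι F) (σ : F ≃+* F) (i : ι) :
    sm g σ (Pi.single i 1) = (g : Matrix ι ι F) *ᵥ Pi.single i 1 := by
  unfold sm
  congr 1
  ext k
  unfold vm
  by_cases hk : k = i
  · rw [hk, Pi.single_eq_same, map_one]
  · rw [Pi.single_eq_of_ne hk, map_zero]

/-- the Gram matrix relation of a semisimilarity -/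
theorem semi_gram (g : Matrix.GeneralLinearGroup ι F) (σ : F ≃+* F) (c : F)
    (hg : ∀ v, Q (sm g σ v) = c * σ (Q v)) :
    (g : Matrix ι ι F)ᵀ * LinearMap.toMatrix₂' F (polarBilin Q) * (g : Matrix ι ι F) =
      c • (LinearMap.toMatrix₂' F (polarBilin Q)).map σ := by
  have h1 := LinearMap.toMatrix₂'_compl₁₂ (polarBilin Q) (Matrix.toLin' (g : Matrix ι ι F))
    (Matrix.toLin' (g : Matrix ι ι F))
  rw [LinearMap.toMatrix'_toLin'] at h1
  rw [← h1]
  ext i j
  rw [LinearMap.toMatrix₂'_apply, LinearMap.compl₁₂_apply, Matrix.toLin'_apply,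
    Matrix.toLin'_apply, polarBilin_apply_apply, ← sm_single g σ i, ← sm_single g σ j,
    polar_sm g σ c hg, Matrix.smul_apply, Matrix.map_apply, LinearMap.toMatrix₂'_apply,
    polarBilin_apply_apply, smul_eq_mul]

theorem semi_det (g : Matrix.GeneralLinearGroup ι F) (σ : F ≃+* F) (c : F)
    (hg : ∀ v, Q (sm g σ v) = c * σ (Q v)) :
    (g : Matrix ι ι F).det ^ 2 * (LinearMap.toMatrix₂' F (polarBilin Q)).det =
      c ^ Fintype.card ι * σ (LinearMap.toMatrix₂' F (polarBilin Q)).det := by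
  have h := congrArg Matrix.det (semi_gram g σ c hg)
  rw [Matrix.det_mul, Matrix.det_mul, Matrix.det_transpose, Matrix.det_smul] at h
  have h2 : ((LinearMap.toMatrix₂' F (polarBilin Q)).map σ).det =
      σ (LinearMap.toMatrix₂' F (polarBilin Q)).det := by
    have := RingHom.map_det (σ : F →+* F) (LinearMap.toMatrix₂' F (polarBilin Q))
    rw [RingHom.mapMatrix_apply] at this
    exact this.symm
  rw [h2] at h
  rw [← h]
  ring

end semigram

section arith
variable {F : Type*} [Field F] [Fintype F]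

/-- the arithmetic core -/
theorem isSquare_of_semi_relations (q₀ : ℕ) (hq : Fintype.card F = q₀ ^ 2) (hq₀ : Odd q₀)
    (D E c u : F) (n : ℕ) (hD : D ≠ 0) (hu : u ≠ 0)
    (h1 : E ^ 2 * D = c ^ (2 * n) * D ^ q₀) (h2 : E * E ^ q₀ = u ^ (2 * n))
    (h3 : u ^ 2 = c * c ^ q₀) : IsSquare D := by
  obtain ⟨k, hk⟩ := hq₀
  have hchar : ringChar F ≠ 2 := by
    intro h
    have h4 : Fintype.card F % 2 = 0 := FiniteField.even_card_of_char_two h
    rw [hq, hk] at h4
    have : (2 * k + 1) ^ 2 = 2 * (2 * k * k + 2 * k) + 1 := by ring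
    omega
  rw [FiniteField.isSquare_iff hchar hD]
  have hhalf : Fintype.card F / 2 = (q₀ - 1) * (k + 1) := by
    rw [hq, hk]
    have : (2 * k + 1) ^ 2 = 2 * ((2 * k + 1 - 1) * (k + 1)) + 1 := by
      rw [Nat.add_sub_cancel]
      ring
    omega
  rw [hhalf, pow_mul]
  have hE : E ^ 2 = c ^ (2 * n) * D ^ (q₀ - 1) := by
    have h5 : D ^ q₀ = D ^ (q₀ - 1) * D := by
      rw [← pow_succ]
      congr 1
      omega
    rw [h5, ← mul_assoc] at h1
    exact mul_right_cancel₀ hD h1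
  have h6 : (E ^ 2) ^ (k + 1) = u ^ (2 * n) := by
    rw [← pow_mul, ← h2, ← pow_succ']
    congr 1
    omega
  have h7 : (c ^ (2 * n)) ^ (k + 1) = u ^ (2 * n) := by
    rw [pow_mul u, h3, ← pow_succ', ← pow_mul, ← pow_mul]
    congr 1
    rw [hk]
    ring
  rw [hE, mul_pow, h7] at h6
  have hu' : u ^ (2 * n) ≠ 0 := pow_ne_zero _ hu
  exact mul_left_cancel₀ hu' (by rw [h6, mul_one])

end arith

section main
variable {F : Type*} [Field F] [Fintype F] {m : ℕ} {a b : F}

/-- **an involution of `PΓO⁻` lies in `PGO⁻`** -/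
theorem sigma_eq_one_of_involution (p f : ℕ) [Fact p.Prime] [CharP F p]
    (hF : Fintype.card F = p ^ f) (h2 : (2 : F) ≠ 0) (hm : 3 ≤ m)
    (hab : ∀ z₁ z₂ : F, z₁ ^ 2 + a * z₁ * z₂ + b * z₂ ^ 2 = 0 → z₁ = 0 ∧ z₂ = 0)
    {γ : MulAut (POmega F ⇑(genForm (binForm a b) m))}
    {g : Matrix.GeneralLinearGroup ((Fin m ⊕ Fin m) ⊕ Fin 2) F} {σ : RingAut F}
    (h : SRg γ g σ) (hγ2 : γ * γ = 1) : σ = 1 := by
  have han := anisotropic_of a b hab
  have hQ := genForm_nondegenerate (binForm a b) (binForm_nondegenerate a b han) m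
  have hfam := Cfsg.Agent.S0294.hfam a b m
  have H := hyp_minus hm hab
  have hcard : Fintype.card ((Fin m ⊕ Fin m) ⊕ Fin 2) = 2 * (m + 1) := by
    rw [Fintype.card_sum, Fintype.card_sum, Fintype.card_fin, Fintype.card_fin]
    ring
  have h5 : 5 ≤ Fintype.card ((Fin m ⊕ Fin m) ⊕ Fin 2) := by
    rw [hcard]
    omega
  have hw₀ := Cfsg.Agent.S0294.quad_xvec (F := F) a b m
  have h1 := SRg_mul h h
  rw [hγ2] at h1
  have hσσ : σ * σ = 1 := by
    obtain ⟨c, hc, hg, e⟩ := h1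
    exact SR_one_imp p H ⟨_, c, hc, hg, e⟩
  by_contra hσ1
  obtain ⟨hev, hpow⟩ := Cfsg.Agent.Lib.Helper9.APSL.involution_eq_pow p f hF σ hσ1 hσσ
  rw [hσσ] at h1
  obtain ⟨u, hu⟩ := scalar_of_SRg_one hQ hfam hm h5 hw₀ h1
  obtain ⟨c, hc, hg, -⟩ := h
  -- the multiplier relation
  have hmul : (u : F) ^ 2 = c * σ c := by
    have h3 := quad_sm_comp g g σ σ c c hg hg (Cfsg.Agent.S0294.xvec m)
    have h4 : g * Matrix.GeneralLinearGroup.map (σ : F →+* F) g = scU u := hu
    have h6 : (σ : F ≃+* F).trans (σ : F ≃+* F) = RingEquiv.refl F := hσσ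
    rw [h4, h6, hw₀] at h3
    unfold sm at h3
    rw [scU_coe, Matrix.smul_mulVec, Matrix.one_mulVec] at h3
    have h7 : vm (RingEquiv.refl F) (Cfsg.Agent.S0294.xvec (F := F) m) =
        Cfsg.Agent.S0294.xvec m := rfl
    rw [h7, QuadraticMap.map_smul, hw₀] at h3
    simp only [RingEquiv.refl_apply, smul_eq_mul, mul_one] at h3
    rw [pow_two]
    exact h3
  -- the determinant relations
  have hdet1 := semi_det g σ c hg
  have hdet2 : (g : Matrix ((Fin m ⊕ Fin m) ⊕ Fin 2) ((Fin m ⊕ Fin m) ⊕ Fin 2) F).det *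
      σ (g : Matrix ((Fin m ⊕ Fin m) ⊕ Fin 2) ((Fin m ⊕ Fin m) ⊕ Fin 2) F).det =
      (u : F) ^ (2 * (m + 1)) := by
    have h3 := congrArg (fun k : Matrix.GeneralLinearGroup ((Fin m ⊕ Fin m) ⊕ Fin 2) F =>
      (k : Matrix ((Fin m ⊕ Fin m) ⊕ Fin 2) ((Fin m ⊕ Fin m) ⊕ Fin 2) F).det) hu
    rw [scU_coe, Matrix.det_smul, Matrix.det_one, mul_one, hcard, Units.val_mul,
      Matrix.det_mul, sGI_coe] at h3
    have h4 : ((g : Matrix ((Fin m ⊕ Fin m) ⊕ Fin 2) ((Fin m ⊕ Fin m) ⊕ Fin 2) F).map σ).det =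
        σ (g : Matrix ((Fin m ⊕ Fin m) ⊕ Fin 2) ((Fin m ⊕ Fin m) ⊕ Fin 2) F).det := by
      have := RingHom.map_det (σ : F →+* F)
        (g : Matrix ((Fin m ⊕ Fin m) ⊕ Fin 2) ((Fin m ⊕ Fin m) ⊕ Fin 2) F)
      rw [RingHom.mapMatrix_apply] at this
      exact this.symm
    rw [h4] at h3
    exact h3
  obtain ⟨e, he, hD⟩ := det_gram_minus a b m
  have hD0 : (LinearMap.toMatrix₂' F (polarBilin (genForm (binForm a b) m))).det ≠ 0 := by
    rw [← Matrix.nondegenerate_iff_det_ne_zero]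
    exact LinearMap.Nondegenerate.toMatrix₂' hQ
  obtain ⟨f', rfl⟩ := hev
  have hq : Fintype.card F = (p ^ f') ^ 2 := by
    rw [hF, ← pow_mul]
    congr 1
    ring
  have hq₀ : Odd (p ^ f') := by
    apply Odd.pow
    rcases (Fact.out : p.Prime).eq_two_or_odd' with h | h
    · exfalso
      apply h2
      have : ((2 : ℕ) : F) = 0 := by
        rw [← h]
        exact CharP.cast_eq_zero F p
      exact_mod_cast this
    · exact h
  have hf' : (f' + f') / 2 = f' := by omega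
  rw [hf'] at hpow
  have hsq := isSquare_of_semi_relations (p ^ f') hq hq₀ _ _ c (u : F) (m + 1) hD0 u.ne_zero
    (by rw [hdet1, hcard, hpow]) (by rw [← hpow]; exact hdet2) (by rw [hmul, hpow])
  -- but the discriminant is not a square
  have hnsq := Cfsg.Agent.S0294.not_isSquare_disc a b h2 han
  have hneg1 : IsSquare (-1 : F) := by
    rw [FiniteField.isSquare_neg_one_iff, hq]
    obtain ⟨k, hk⟩ := hq₀
    rw [hk]
    have : (2 * k + 1) ^ 2 = 4 * (k * k + k) + 1 := by ring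
    omega
  have he' : IsSquare e := by
    rcases mul_self_eq_one_iff.1 he with h | h
    · rw [h]; exact ⟨1, by ring⟩
    · rw [h]; exact hneg1
  apply hnsq
  rw [hD] at hsq
  obtain ⟨x, hx⟩ := hsq
  obtain ⟨y, hy⟩ := he'
  obtain ⟨z, hz⟩ := hneg1
  have hy0 : y ≠ 0 := by
    rintro rfl
    rw [mul_zero] at hy
    rw [hy, mul_zero] at he
    exact zero_ne_one he
  refine ⟨z * x / y, ?_⟩
  field_simp
  have hxx : x * x = y * y * (4 * b - a * a) := by rw [← hx, hy]
  linear_combination (-(z ^ 2)) * hxx + (y ^ 2 * (4 * b - a ^ 2)) * hz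
end main

end Cfsg.Agent.Lib.Helper5.MinusGraph
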