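import Mathlib
import Cfsg.Prelude
import Cfsg.Agent.Lib.Helper5.MinusGraph.NoComm
import Cfsg.Agent.Lib.Helper5.MinusGraph.SigmaOne
import Cfsg.Agent.Lib.Helper5.OAut.InndiagMinusMain
import Cfsg.Agent.Lib.Helper5.PlusField.GFSplit

set_option autoImplicit false
set_option linter.unusedSectionVars false
set_option linter.unusedVariables false

/-! Involutory graph automorphisms of `PΩ⁻`: splitting of the `Inndiag`-class. -/

namespace Cfsg.Agent.Lib.Helper5.MinusGraph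

open Cfsg Matrix QuadraticMap Module Cfsg.Agent.Lib.Helper5.SpinorNorm Cfsg.Agent.Lib.Helper5.Refl
  Cfsg.Agent.Lib.Helper5.SpinorHyp Cfsg.Agent.Lib.Helper5.SpinorDiag Cfsg.Agent.Lib.Helper5.MaxTS
  Cfsg.Agent.Lib.Helper5.OAut Cfsg.Agent.Lib.Helper5.OrthCard Cfsg.Agent.Lib.Helper5.OrthPlane
open Cfsg.Agent.Lib.Helper9.AOR Cfsg.Agent.Lib.Helper9.ASP Cfsg.Agent.Lib.Helper9.AOF
open Cfsg.Agent.Lib.Helper5.PlusField (splitClassCount_of_cent_le)

section core
variable {ι : Type} [Fintype ι] [DecidableEq ι] {F : Type*} [Field F] [Fintype F]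
  {Q : QuadraticForm F (ι → F)} {i : ℕ} {α β : Fin i → ι}

set_option maxHeartbeats 4000000 in
/-- **splitting of the inner-diagonal class of an involutory graph automorphism**, in terms
of the inducing similarity -/
theorem graph_split_core (h2 : (2 : F) ≠ 0) (hQ : (polarBilin Q).Nondegenerate)
    (h : IsHypFamily Q α β) (hi : 3 ≤ i) (h5 : 5 ≤ Fintype.card ι) (w₀ : ι → F)
    (hw₀ : Q w₀ = 1) (m : ℕ) (hcard : Fintype.card ι = 2 * m)
    (hns : ∃ g₁ : ↥(Geo.quadSimilarityGroup (F := F) ⇑Q), ¬ IsSquare (mult Q w₀ (g₁ : GL ι F)))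
    (γ : MulAut (POmega F ⇑Q)) (g : ↥(Geo.quadSimilarityGroup (F := F) ⇑Q))
    (hγg : γ = conjGO Q g) (hdr : detRatio (Q := Q) w₀ m (g : GL ι F) ≠ 1)
    (hγ2 : orderOf γ = 2) :
    (negOne Q ∉ Omega F ⇑Q →
      (splitClassCount (inndiagAut h2 hQ w₀ hw₀ m hcard) (Inn (POmega F ⇑Q)) γ = 1 ∨
        splitClassCount (inndiagAut h2 hQ w₀ hw₀ m hcard) (Inn (POmega F ⇑Q)) γ = 2)) ∧
    (negOne Q ∈ Omega F ⇑Q →
      splitClassCount (inndiagAut h2 hQ w₀ hw₀ m hcard) (Inn (POmega F ⇑Q)) γ = 2) ∧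
    (negOne Q ∉ Omega F ⇑Q → Even m →
      splitClassCount (inndiagAut h2 hQ w₀ hw₀ m hcard) (Inn (POmega F ⇑Q)) γ = 2) := by
  have hKH := inn_le_inndiagAut h2 hQ h hi h5 w₀ hw₀ m hcard
  have hrel := relIndex_inn_inndiagAut h2 hQ h hi h5 w₀ hw₀ m hcard hns
  have hgg : g * g ∈ (conjGO Q).ker := by
    rw [MonoidHom.mem_ker, map_mul, ← hγg, ← pow_two, ← hγ2]
    exact pow_orderOf_eq_one γ
  refine ⟨fun hneg => splitClassCount_of_relIndex_two _ _ hKH γ (hrel.2 hneg), ?_, ?_⟩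
  · intro hneg
    obtain ⟨z, hzso, hzΩ, hzg⟩ := exists_commuting_so h2 hQ h hi h5 hw₀ m hcard g hdr hgg
    -- the element `c`
    have hcH : conjGO Q (inclO Q z) ∈ inndiagAut h2 hQ w₀ hw₀ m hcard :=
      Subgroup.mem_map_of_mem _
        (soSub_map_le_goZero h2 hQ h hi h5 w₀ hw₀ m hcard (Subgroup.mem_map_of_mem _ hzso))
    have hcz : conjGO Q (inclO Q z) = conjO Q z := by
      rw [← conjGO_comp_inclO]
      rfl
    have hcK : conjGO Q (inclO Q z) ∉ Inn (POmega F ⇑Q) := by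
      intro hc
      rw [hcz] at hc
      exact hzΩ (mem_Omega_of_conjO_mem_inn hQ h hi h5 hneg z hc)
    have hcx : conjGO Q (inclO Q z) * γ = γ * conjGO Q (inclO Q z) := by
      rw [hγg, ← map_mul, ← map_mul]
      congr 1
      apply Subtype.ext
      show ((z : ↥(isometryGroup F ⇑Q)) : GL ι F) * (g : GL ι F) =
        (g : GL ι F) * ((z : ↥(isometryGroup F ⇑Q)) : GL ι F)
      exact hzg.symm
    -- the element `h`
    obtain ⟨φ, hφ, hker⟩ := exists_pgo_mod_inn_dihedral h2 hQ h hi h5 w₀ hw₀ m hcard hns hneg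
    have hγP : γ ∈ pgoAut F ⇑Q := by
      rw [pgoAut_eq, hγg]
      exact ⟨g, rfl⟩
    have hγH : γ ∉ inndiagAut h2 hQ w₀ hw₀ m hcard := by
      rintro ⟨g', hg', hgg'⟩
      apply hdr
      rw [← mem_goZero_iff h2 hQ w₀ hw₀ m hcard]
      have hk : g'⁻¹ * g ∈ (conjGO Q).ker := by
        rw [MonoidHom.mem_ker, map_mul, map_inv, hgg', hγg, inv_mul_cancel]
      have h3 := Subgroup.mul_mem _ hg'
        (ker_conjGO_le_goZero h2 hQ h hi h5 w₀ hw₀ m hcard hk)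
      rwa [mul_inv_cancel_left] at h3
    obtain ⟨hh, hhH, hhx⟩ := exists_comm_not_mem (pgoAut F ⇑Q) (inndiagAut h2 hQ w₀ hw₀ m hcard)
      (Inn (POmega F ⇑Q)) hKH (relIndex_inndiagAut_pgoAut h2 hQ h hi h5 w₀ hw₀ m hcard hns)
      φ hφ hker γ hγP hγH
    exact splitClassCount_eq_two _ _ hKH γ (hrel.1 hneg) _ hcH hcK hcx hh hhH hhx
  · intro hneg hm
    have heven : Even (Fintype.card ι) := ⟨m, by rw [hcard]; ring⟩
    rw [splitClassCount_of_cent_le _ _ hKH γ, hrel.2 hneg]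
    rintro c ⟨h', hh', rfl⟩ hcomm
    by_contra hcK
    -- the multiplier of `h'` is not a square
    have hnsq : ¬ IsSquare (mult Q w₀ (h' : GL ι F)) := by
      intro hsq
      apply hcK
      have hmem : h' ∈ (chi h2 hQ w₀ hw₀ m hcard).ker := by
        rw [MonoidHom.mem_ker, chi_apply, Prod.mk_eq_one]
        exact ⟨sgn_eq_one_iff.2 hsq,
          (signOf_eq_one_iff _).2 ((mem_goZero_iff h2 hQ w₀ hw₀ m hcard h').1 hh')⟩
      rw [ker_chi h2 hQ h hi h5 w₀ hw₀ m hcard, Subgroup.mem_sup_of_normal_right] at hmem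
      obtain ⟨z, hz, k, hk, hzk⟩ := hmem
      rw [← psoAut_eq_inn h2 hQ h hi h5 heven hneg, psoAut_eq', ← hzk, map_mul,
        (MonoidHom.mem_ker).1 hk, mul_one]
      exact Subgroup.mem_map_of_mem _ hz
    -- the commutator is a scalar
    have hker : (g * h')⁻¹ * (h' * g) ∈ (conjGO Q).ker := by
      rw [MonoidHom.mem_ker, map_mul, map_inv, map_mul, map_mul, ← hγg, hcomm, inv_mul_cancel]
    obtain ⟨cc, -, hcc⟩ := scalar_of_mem_ker_conjGO hQ h hi h5 hw₀ _ hker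
    obtain ⟨lam, -, hlam⟩ := scalar_of_mem_ker_conjGO hQ h hi h5 hw₀ _ hgg
    apply no_comm_core h2 hQ hw₀ m hcard hm (by omega) g h' hdr hnsq lam hlam cc
    have h3 : (((h' * g : ↥(Geo.quadSimilarityGroup (F := F) ⇑Q)) : GL ι F) : Matrix ι ι F) =
        (((g * h' : ↥(Geo.quadSimilarityGroup (F := F) ⇑Q)) : GL ι F) : Matrix ι ι F) *
        ((((g * h')⁻¹ * (h' * g) : ↥(Geo.quadSimilarityGroup (F := F) ⇑Q)) : GL ι F) :
          Matrix ι ι F) := by
      rw [← Units.val_mul, ← Subgroup.coe_mul, mul_inv_cancel_left]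
    rw [hcc, Matrix.mul_smul, Matrix.mul_one] at h3
    exact h3

end core

section minus
variable {F : Type*} [Field F] [Fintype F] {m : ℕ} {a b : F}

theorem exists_SRg_of_mem_gamma {ι : Type} [Fintype ι] [DecidableEq ι]
    {Q : QuadraticForm F (ι → F)} (γ : MulAut (POmega F ⇑Q)) (hγ : γ ∈ gammaPOmega F ⇑Q) :
    ∃ σ : F ≃+* F, SR Q γ σ := by
  unfold gammaPOmega autSubgroupOf at hγ
  induction hγ using Subgroup.closure_induction with
  | mem x hx =>
    obtain ⟨g, σ, hp, hi⟩ := hx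
    exact ⟨σ, SR_of_induced g σ hp x hi⟩
  | one => exact ⟨_, SR_one⟩
  | mul x y _ _ hx hy =>
    obtain ⟨σ, hσ⟩ := hx
    obtain ⟨σ', hσ'⟩ := hy
    exact ⟨_, SR_mul hσ hσ'⟩
  | inv x _ hx =>
    obtain ⟨σ, hσ⟩ := hx
    exact SR_inv hσ

set_option maxHeartbeats 4000000 in
/-- **the minus type case**, stated for an unbundled copy of the form -/
theorem graph_split_minus (hodd : Odd (Fintype.card F)) (hm : 3 ≤ m)
    (hab : ∀ z₁ z₂ : F, z₁ ^ 2 + a * z₁ * z₂ + b * z₂ ^ 2 = 0 → z₁ = 0 ∧ z₂ = 0)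
    (q : ((Fin m ⊕ Fin m) ⊕ Fin 2 → F) → F) (hq : ⇑(genForm (binForm a b) m) = q)
    (γ : MulAut (POmega F q)) (hγ : γ ∈ gammaPOmega F q)
    (hγn : γ ∉ inndiagGenP q (PreservesSingularClassesMinus m a b))
    (hγ2 : orderOf γ = 2) :
    (negOne (genForm (binForm a b) m) ∉ Omega F ⇑(genForm (binForm a b) m) →
      (splitClassCount (inndiagGenP q (PreservesSingularClassesMinus m a b))
          (Inn (POmega F q)) γ = 1 ∨
        splitClassCount (inndiagGenP q (PreservesSingularClassesMinus m a b))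
          (Inn (POmega F q)) γ = 2)) ∧
    (negOne (genForm (binForm a b) m) ∈ Omega F ⇑(genForm (binForm a b) m) →
      splitClassCount (inndiagGenP q (PreservesSingularClassesMinus m a b))
        (Inn (POmega F q)) γ = 2) ∧
    (negOne (genForm (binForm a b) m) ∉ Omega F ⇑(genForm (binForm a b) m) → Odd m →
      splitClassCount (inndiagGenP q (PreservesSingularClassesMinus m a b))
        (Inn (POmega F q)) γ = 2) := by
  subst hq
  have h2 : (2 : F) ≠ 0 := Cfsg.Agent.Lib.Helper5.two_ne_zero_of_odd_card hodd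
  have hodd' : Fintype.card F % 2 = 1 := Nat.odd_iff.mp hodd
  have han := anisotropic_of a b hab
  have hQ := genForm_nondegenerate (binForm a b) (binForm_nondegenerate a b han) m
  have hfam := Cfsg.Agent.S0294.hfam a b m
  have hcard : Fintype.card ((Fin m ⊕ Fin m) ⊕ Fin 2) = 2 * (m + 1) := by
    rw [Fintype.card_sum, Fintype.card_sum, Fintype.card_fin, Fintype.card_fin]
    ring
  have h5 : 5 ≤ Fintype.card ((Fin m ⊕ Fin m) ⊕ Fin 2) := by
    rw [hcard]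
    omega
  have hw₀ := Cfsg.Agent.S0294.quad_xvec (F := F) a b m
  obtain ⟨ν, hν0, hν⟩ := exists_nonsquare (F := F) h2
  obtain ⟨s, u, hsu⟩ := Cfsg.Agent.Lib.Helper5.OParab.exists_qBin_eq hodd' h2 hab ν hν0
  have hsu' : s * s + a * (s * u) + b * (u * u) = ν := by
    rw [← hsu, Cfsg.Agent.Lib.Helper5.QuadSign.qBin_apply]
    simp only [Matrix.cons_val_zero, Matrix.cons_val_one]
    ring
  obtain ⟨g₁, hg₁⟩ := exists_sim_minus m a b s u (by rw [hsu']; exact hν0)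
  rw [hsu'] at hg₁
  have hns : ∃ g₁ : ↥(Geo.quadSimilarityGroup (F := F) ⇑(genForm (binForm a b) m)),
      ¬ IsSquare (Cfsg.Agent.Lib.Helper5.OAut.mult (genForm (binForm a b) m)
        (Cfsg.Agent.S0294.xvec m)
        (g₁ : GL ((Fin m ⊕ Fin m) ⊕ Fin 2) F)) := by
    refine ⟨⟨g₁, ⟨Units.mk0 ν hν0, hg₁⟩⟩, ?_⟩
    unfold Cfsg.Agent.Lib.Helper5.OAut.mult
    rw [hg₁ (Cfsg.Agent.S0294.xvec m), hw₀, mul_one]
    exact hν
  rw [inndiagGenP_eq _ h2 hQ (Cfsg.Agent.S0294.xvec m) hw₀ (m + 1) hcard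
    (minus_crit a b m hodd hab hw₀)] at hγn ⊢
  -- the characteristic
  obtain ⟨p, hp⟩ := CharP.exists F
  haveI := hp
  haveI : Fact p.Prime := ⟨CharP.char_is_prime F p⟩
  obtain ⟨f, -, hF⟩ := FiniteField.card F p
  -- `γ` is induced by a similarity
  obtain ⟨σ, g, c, hc, hg, e⟩ := exists_SRg_of_mem_gamma γ hγ
  have hγγ : γ * γ = 1 := by
    have h9 := pow_orderOf_eq_one γ
    rw [hγ2, pow_two] at h9
    exact h9
  have hσ1 : (σ : RingAut F) = 1 :=
    sigma_eq_one_of_involution p f hF h2 hm hab (γ := γ) (g := g) (σ := σ) ⟨c, hc, hg, e⟩ hγγ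
  subst hσ1
  have hgmem : g ∈ Geo.quadSimilarityGroup (F := F) ⇑(genForm (binForm a b) m) :=
    ⟨Units.mk0 c hc, fun v => hg v⟩
  have hγg : γ = conjGO (genForm (binForm a b) m) ⟨g, hgmem⟩ :=
    (SRg_unique_left hw₀ (SRg_conjGO (Q := genForm (binForm a b) m) ⟨g, hgmem⟩)
      ⟨c, hc, hg, e⟩).symm
  have hdr : detRatio (Q := genForm (binForm a b) m) (Cfsg.Agent.S0294.xvec m) (m + 1)
      ((⟨g, hgmem⟩ : ↥(Geo.quadSimilarityGroup (F := F) ⇑(genForm (binForm a b) m))) :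
        GL ((Fin m ⊕ Fin m) ⊕ Fin 2) F) ≠ 1 := by
    intro h1
    apply hγn
    rw [hγg]
    exact Subgroup.mem_map_of_mem _ ((mem_goZero_iff h2 hQ _ hw₀ (m + 1) hcard _).2 h1)
  obtain ⟨k1, k2, k3⟩ := graph_split_core h2 hQ hfam hm h5 (Cfsg.Agent.S0294.xvec m) hw₀ (m + 1)
    hcard hns γ ⟨g, hgmem⟩ hγg hdr hγ2
  exact ⟨k1, k2, fun hneg hmo => k3 hneg hmo.add_one⟩

end minus

end Cfsg.Agent.Lib.Helper5.MinusGraph
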